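import Groth.Agent.Lib.Serre.Regular
import Groth.Agent.Lib.RegLoc.Basic
import Mathlib.RingTheory.UniqueFactorizationDomain.Kaplansky
import Mathlib.RingTheory.Ideal.KrullsHeightTheorem
import Mathlib.LinearAlgebra.Determinant
import Mathlib.RingTheory.Localization.Away.Basic
import Mathlib.RingTheory.LocalProperties.Projective

/-!
# Regular local rings are factorial (Auslander–Buchsbaum)
-/

universe u

namespace GrothLib.RegUFD

open IsLocalRing TensorProduct GrothLib.Serre

/-- An ideal of a domain which is stably free of rank one is principal. -/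
theorem isPrincipal_of_stablyFree {S : Type u} [CommRing S] [IsDomain S] (P : Ideal S) (hP : P ≠ ⊥)
    {b m : ℕ} (φ : (P × (Fin b → S)) ≃ₗ[S] (Fin m → S)) : P.IsPrincipal := by
  classical
  obtain ⟨p₀, hp₀, hp0⟩ := Submodule.exists_mem_ne_zero_of_ne_bot hP
  let cons : (Fin (b + 1) → S) ≃ₗ[S] (S × (Fin b → S)) := (Fin.consLinearEquiv S fun _ => S).symm
  let sc : S →ₗ[S] P := LinearMap.toSpanSingleton S P ⟨p₀, hp₀⟩
  let Φ : (Fin (b + 1) → S) →ₗ[S] (Fin m → S) :=
    φ.toLinearMap ∘ₗ sc.prodMap LinearMap.id ∘ₗ cons.toLinearMap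
  let Ψ : (Fin m → S) →ₗ[S] (Fin (b + 1) → S) :=
    cons.symm.toLinearMap ∘ₗ P.subtype.prodMap LinearMap.id ∘ₗ φ.symm.toLinearMap
  have hΨ : Function.Injective Ψ := cons.symm.injective.comp
    ((Prod.map_injective.mpr ⟨P.injective_subtype, Function.injective_id⟩).comp φ.symm.injective)
  have hΦ : Function.Injective Φ := by
    refine φ.injective.comp ?_
    rw [LinearMap.coe_comp]
    refine Function.Injective.comp ?_ cons.injective
    rintro ⟨s, u⟩ ⟨t, v⟩ hst
    have h1 : s • p₀ = t • p₀ := congrArg (fun z : P × (Fin b → S) => (z.1 : S)) hst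
    exact Prod.ext (mul_right_cancel₀ hp0 h1) (congrArg (fun z : P × (Fin b → S) => z.2) hst)
  have hm : m = b + 1 := le_antisymm (le_of_fin_injective S Ψ hΨ) (le_of_fin_injective S Φ hΦ)
  subst hm
  let D : (Fin (b + 1) → S) →ₗ[S] (Fin (b + 1) → S) :=
    Matrix.toLin' (Matrix.diagonal (Fin.cons 1 fun _ => p₀))
  have hcomp : Φ ∘ₗ D ∘ₗ Ψ = p₀ • LinearMap.id := by
    refine LinearMap.ext fun x => ?_
    let α := (φ.symm x).1
    let β := (φ.symm x).2
    have h1 : cons (D (Ψ x)) = ((α : S), p₀ • β) := by
      refine Prod.ext ?_ (funext fun i => ?_) <;>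
        simp [cons, D, Ψ, α, β, Matrix.mulVec_diagonal, Fin.tail]
    show φ (sc.prodMap LinearMap.id (cons (D (Ψ x)))) = p₀ • x
    rw [h1, show sc.prodMap LinearMap.id ((α : S), p₀ • β) = p₀ • (φ.symm x) from
      Prod.ext (Subtype.ext (mul_comm (α : S) p₀)) rfl, map_smul, LinearEquiv.apply_symm_apply]
  have hdet := congrArg LinearMap.det hcomp
  rw [LinearMap.det_comp, LinearMap.det_comp, LinearMap.det_smul, LinearMap.det_id, mul_one,
    LinearMap.det_toLin', Matrix.det_diagonal, Fin.prod_univ_succ] at hdet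
  simp only [Fin.cons_zero, Fin.cons_succ, Finset.prod_const, Finset.card_univ, Fintype.card_fin,
    one_mul, Module.finrank_fin_fun] at hdet
  let d := LinearMap.det Ψ
  have key : LinearMap.det Φ * d = p₀ :=
    mul_left_cancel₀ (pow_ne_zero b hp0) (by rw [mul_left_comm, hdet, pow_succ])
  -- `d` lies in `P`
  have hdP : d ∈ P := by
    show LinearMap.det Ψ ∈ P
    rw [← LinearMap.det_toMatrix', Matrix.det_succ_row_zero]
    refine Ideal.sum_mem _ fun j _ => Ideal.mul_mem_right _ _ (Ideal.mul_mem_left _ _ ?_)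
    rw [LinearMap.toMatrix'_apply]
    have : Ψ (Pi.single j 1) 0 = ((φ.symm (Pi.single j 1)).1 : S) := by simp [Ψ, cons]
    convert this ▸ ((φ.symm (Pi.single j 1)).1).2 using 1
  -- and divides every element
  refine ⟨d, le_antisymm (fun p hp => ?_) ((Submodule.span_singleton_le_iff_mem _ _).mpr hdP)⟩
  let sp : S →ₗ[S] P := LinearMap.toSpanSingleton S P ⟨p, hp⟩
  let Φp : (Fin (b + 1) → S) →ₗ[S] (Fin (b + 1) → S) :=
    φ.toLinearMap ∘ₗ sp.prodMap LinearMap.id ∘ₗ cons.toLinearMap
  let Dp : (Fin (b + 1) → S) →ₗ[S] (Fin (b + 1) → S) :=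
    Matrix.toLin' (Matrix.diagonal (Fin.cons 1 fun _ => p))
  have hcompp : Φp ∘ₗ Dp ∘ₗ Ψ = p • LinearMap.id := by
    refine LinearMap.ext fun x => ?_
    let α := (φ.symm x).1
    let β := (φ.symm x).2
    have h1 : cons (Dp (Ψ x)) = ((α : S), p • β) := by
      refine Prod.ext ?_ (funext fun i => ?_) <;>
        simp [cons, Dp, Ψ, α, β, Matrix.mulVec_diagonal, Fin.tail]
    show φ (sp.prodMap LinearMap.id (cons (Dp (Ψ x)))) = p • x
    rw [h1, show sp.prodMap LinearMap.id ((α : S), p • β) = p • (φ.symm x) from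
      Prod.ext (Subtype.ext (mul_comm (α : S) p)) rfl, map_smul, LinearEquiv.apply_symm_apply]
  rw [Submodule.mem_span_singleton]
  by_cases hp' : p = 0
  · exact ⟨0, by simp [hp']⟩
  have hdetp := congrArg LinearMap.det hcompp
  rw [LinearMap.det_comp, LinearMap.det_comp, LinearMap.det_smul, LinearMap.det_id, mul_one,
    LinearMap.det_toLin', Matrix.det_diagonal, Fin.prod_univ_succ] at hdetp
  simp only [Fin.cons_zero, Fin.cons_succ, Finset.prod_const, Finset.card_univ, Fintype.card_fin,
    one_mul, Module.finrank_fin_fun] at hdetp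
  exact ⟨LinearMap.det Φp, mul_left_cancel₀ (pow_ne_zero b hp') (by
    rw [smul_eq_mul, mul_left_comm, hdetp, pow_succ])⟩

/-- A base change which is projective of a module of finite projective dimension over a local ring
is stably free. -/
theorem exists_stablyFree {R S : Type u} [CommRing R] [IsLocalRing R] [IsNoetherianRing R]
    [CommRing S] [Algebra R S] [Module.Flat R S] :
    ∀ (n : ℕ) (M : Type u) [AddCommGroup M] [Module R M] [Module.Finite R M], PdLE R M n →
      Module.Projective S (S ⊗[R] M) →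
      ∃ (b m : ℕ), Nonempty (((S ⊗[R] M) × (Fin b → S)) ≃ₗ[S] (Fin m → S)) := by
  classical
  intro n
  induction n with
  | zero =>
    intro M _ _ _ h _
    rw [pdLE_zero_iff] at h
    haveI : Module.FinitePresentation R M := Module.finitePresentation_of_finite R M
    haveI := h
    haveI : Module.Free R M := Module.free_of_flat_of_isLocalRing
    let e := (Module.Free.chooseBasis R M).baseChange S
    refine ⟨0, Fintype.card (Module.Free.ChooseBasisIndex R M), ⟨?_⟩⟩
    exact LinearEquiv.prodUnique ≪≫ₗ e.equivFun ≪≫ₗ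
      LinearEquiv.funCongrLeft S S (Fintype.equivFin _).symm
  | succ n ih =>
    intro M _ _ _ h hproj
    obtain ⟨k, f, hf⟩ := Module.Finite.exists_fin' R M
    have hK : PdLE R (LinearMap.ker f) n := (pdLE_succ_iff f hf n).mp h
    haveI := hproj
    let eK := kerBaseChangeEquiv (B := S) f hf
      (Module.Flat.lTensor_preserves_injective_linearMap _ (LinearMap.ker f).injective_subtype)
    have hsurj : Function.Surjective (f.baseChange S) :=
      LinearMap.lTensor_surjective S hf
    obtain ⟨σ, hσ⟩ := Module.projective_lifting_property (f.baseChange S) LinearMap.id hsurj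
    let g := f.baseChange S
    let π : (S ⊗[R] (Fin k → R)) →ₗ[S] LinearMap.ker g :=
      LinearMap.codRestrict _ (LinearMap.id - σ ∘ₗ g) fun z => by
        rw [LinearMap.mem_ker, LinearMap.sub_apply, map_sub, LinearMap.comp_apply,
          show g (σ (g z)) = g z from LinearMap.congr_fun hσ (g z), LinearMap.id_apply, sub_self]
    let split : (S ⊗[R] (Fin k → R)) ≃ₗ[S] (S ⊗[R] M) × LinearMap.ker g :=
      LinearEquiv.ofLinear (g.prod π) (σ.coprod (LinearMap.ker g).subtype)
        (LinearMap.ext fun z => by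
          obtain ⟨y, c⟩ := z
          have h1 : g (σ y) = y := LinearMap.congr_fun hσ y
          have h2 : g (c : S ⊗[R] (Fin k → R)) = 0 := c.2
          refine Prod.ext ?_ (Subtype.ext ?_)
          · simp [h1, h2]
          · simp [π, h1, h2])
        (LinearMap.ext fun z => by simp [π])
    haveI : Module.Projective S (LinearMap.ker g) :=
      Module.Projective.of_split (LinearMap.ker g).subtype π (LinearMap.ext fun c => Subtype.ext (by
        have h2 : g (c : S ⊗[R] (Fin k → R)) = 0 := c.2
        simp [π, h2]))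
    haveI : Module.Finite R (LinearMap.ker f) := Module.Finite.of_fg (IsNoetherian.noetherian _)
    obtain ⟨b, m, ⟨eb⟩⟩ := ih (LinearMap.ker f) hK (Module.Projective.of_equiv eK.symm)
    let fk : (S ⊗[R] (Fin k → R)) ≃ₗ[S] (Fin k → S) :=
      ((Pi.basisFun R (Fin k)).baseChange S).equivFun
    let join : ∀ i j : ℕ, ((Fin i → S) × (Fin j → S)) ≃ₗ[S] (Fin (i + j) → S) := fun i j =>
      (LinearEquiv.sumArrowLequivProdArrow (Fin i) (Fin j) S S).symm ≪≫ₗ
        LinearEquiv.funCongrLeft S S finSumFinEquiv.symm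
    refine ⟨m, k + b, ⟨?_⟩⟩
    exact (LinearEquiv.refl S (S ⊗[R] M)).prodCongr (eb.symm ≪≫ₗ eK.prodCongr (.refl S _)) ≪≫ₗ
      (LinearEquiv.prodAssoc S _ _ _).symm ≪≫ₗ
      (split.symm ≪≫ₗ fk).prodCongr (.refl S _) ≪≫ₗ join k b

/-- Regular local rings are factorial. -/
theorem uniqueFactorizationMonoid_of_regular : ∀ (d : ℕ) (R : Type u) [CommRing R] [IsDomain R]
    [IsRegularLocalRing R], ringKrullDim R ≤ d → UniqueFactorizationMonoid R := by
  intro d
  induction d using Nat.strong_induction_on with
  | _ d ih =>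
  intro R _ _ _ hdR
  by_cases hm : maximalIdeal R = ⊥
  · haveI : IsField R := (IsLocalRing.isField_iff_maximalIdeal_eq).mpr hm
    letI := ‹IsField R›.toField
    infer_instance
  obtain ⟨x, hxm, hx2⟩ := exists_mem_notMem_sq hm
  haveI := (GrothLib.RegLoc.quotient_isRegularLocalRing hxm hx2).1
  have hx0 : x ≠ 0 := fun h => hx2 (h ▸ zero_mem _)
  have hxp : Prime x := by
    rw [← Ideal.span_singleton_prime hx0, ← Ideal.Quotient.isDomain_iff_prime]
    exact GrothLib.CMFree.isDomain_of_isRegularLocalRing _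
  rw [UniqueFactorizationMonoid.iff_exists_prime_mem_of_isPrime]
  intro Q hQ0 hQ
  by_cases hxQ : x ∈ Q
  · exact ⟨x, hxQ, hxp⟩
  -- a height one prime inside `Q`
  obtain ⟨q, hqQ, hq0⟩ := Submodule.exists_mem_ne_zero_of_ne_bot hQ0
  obtain ⟨P, hPmin, hPQ⟩ := Ideal.exists_minimalPrimes_le ((Ideal.span_singleton_le_iff_mem Q).mpr hqQ)
  haveI : P.IsPrime := hPmin.1.1
  have hqP : q ∈ P := hPmin.1.2 (Ideal.mem_span_singleton_self q)
  have hPne : P ≠ ⊥ := fun h => hq0 (by rw [h] at hqP; exact hqP)
  have hPh : P.height ≤ 1 := Ideal.height_le_one_of_isPrincipal_of_mem_minimalPrimes _ P hPmin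
  have hxP : x ∉ P := fun h => hxQ (hPQ h)
  -- the localisation at `x`
  let S := Localization.Away x
  haveI : IsDomain S := IsLocalization.isDomain_localization
    (powers_le_nonZeroDivisors_of_noZeroDivisors hx0)
  haveI : IsNoetherianRing S := IsLocalization.isNoetherianRing (Submonoid.powers x) S inferInstance
  haveI : Module.Flat R S := IsLocalization.flat S (Submonoid.powers x)
  let Ps := P.map (algebraMap R S)
  have hdis : Disjoint (Submonoid.powers x : Set R) P := by
    rw [Set.disjoint_left]
    rintro _ ⟨n, rfl⟩ hn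
    exact hxP (‹P.IsPrime›.mem_of_pow_mem n hn)
  haveI : Ps.IsPrime := IsLocalization.isPrime_of_isPrime_disjoint (Submonoid.powers x) S P inferInstance hdis
  have hPsne : Ps ≠ ⊥ := fun h => by
    have hinj : Function.Injective (algebraMap R S) :=
      IsLocalization.injective S (powers_le_nonZeroDivisors_of_noZeroDivisors hx0)
    exact hPne ((Ideal.map_eq_bot_iff_of_injective hinj).mp h)
  -- `Ps` is projective
  let e : (S ⊗[R] P) ≃ₗ[S] Ps := by
    have hP' := Module.Flat.lTensor_preserves_injective_linearMap (M := S) P.subtype P.injective_subtype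
    let g : (S ⊗[R] P) →ₗ[S] S :=
      (TensorProduct.AlgebraTensorModule.rid R S S).toLinearMap ∘ₗ (P.subtype.baseChange S)
    have hr : LinearMap.range g = Ps := by
      refine le_antisymm ?_ (Ideal.map_le_iff_le_comap.mpr fun p hp => ⟨1 ⊗ₜ ⟨p, hp⟩, by
        simp [g, Algebra.smul_def]⟩)
      rintro _ ⟨z, rfl⟩
      induction z using TensorProduct.induction_on with
      | zero => simp
      | add a b ha hb => rw [map_add]; exact add_mem ha hb
      | tmul s p => simpa [g, Algebra.smul_def] using
          Ideal.mul_mem_right s _ (Ideal.mem_map_of_mem (algebraMap R S) p.2)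
    exact LinearEquiv.ofInjective g ((TensorProduct.AlgebraTensorModule.rid R S S).injective.comp hP') ≪≫ₗ
      LinearEquiv.ofEq _ _ hr
  haveI : Module.Finite S Ps := Module.Finite.of_fg (IsNoetherian.noetherian Ps)
  haveI : Module.FinitePresentation S Ps := Module.finitePresentation_of_finite S Ps
  haveI : Module.Flat S Ps := by
    refine Module.flat_of_isLocalized_maximal S Ps (fun Q' _ => Ps.map (algebraMap S (Localization.AtPrime Q')))
      (fun Q' _ => Algebra.idealMap (Localization.AtPrime Q') Ps) fun Q' hQ' => ?_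
    let q' := Q'.comap (algebraMap R S)
    haveI : q'.IsPrime := Ideal.IsPrime.comap _
    haveI : IsLocalization.AtPrime (Localization.AtPrime Q') q' :=
      IsLocalization.isLocalization_isLocalization_atPrime_isLocalization (Submonoid.powers x) _ Q'
    haveI : IsRegularLocalRing (Localization.AtPrime Q') :=
      isRegularLocalRing_localization R q' _
    have hxq : x ∉ q' := fun h => Ideal.IsPrime.ne_top'
      (Ideal.eq_top_of_isUnit_mem Q' h (IsLocalization.Away.algebraMap_isUnit x))
    have hlt : q' < maximalIdeal R :=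
      lt_of_le_of_ne (le_maximalIdeal Ideal.IsPrime.ne_top') fun h => hxq (h ▸ hxm)
    have hdim : ringKrullDim (Localization.AtPrime Q') ≤ ((d - 1 : ℕ) : WithBot ℕ∞) ∧ 0 < d := by
      rw [IsLocalization.AtPrime.ringKrullDim_eq_height q' (Localization.AtPrime Q')]
      have h1 := Ideal.height_add_one_le_of_lt_of_isPrime hlt
      have h2 := (Ideal.height_le_ringKrullDim_of_isPrime (I := maximalIdeal R)).trans hdR
      have h3 : q'.height + 1 ≤ (d : ℕ∞) := h1.trans (WithBot.coe_le_coe.mp h2)
      obtain ⟨k, hk⟩ := ENat.ne_top_iff_exists.mp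
        (ne_top_of_le_ne_top (ENat.coe_ne_top d) (le_self_add.trans h3))
      rw [← hk] at h3 ⊢
      have h4 : k + 1 ≤ d := by exact_mod_cast h3
      exact ⟨WithBot.coe_le_coe.mpr (by exact_mod_cast (show k ≤ d - 1 by omega)), by omega⟩
    haveI : UniqueFactorizationMonoid (Localization.AtPrime Q') :=
      ih (d - 1) (by omega) _ hdim.1
    -- the extension of `Ps` is principal
    have hpr : (Ps.map (algebraMap S (Localization.AtPrime Q'))).IsPrincipal := by
      by_cases hle : Ps ≤ Q'
      · let P' := Ps.map (algebraMap S (Localization.AtPrime Q'))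
        have hd' : Disjoint (Q'.primeCompl : Set S) Ps :=
          Set.disjoint_left.mpr fun s hs hsP => hs (hle hsP)
        haveI : P'.IsPrime :=
          IsLocalization.isPrime_of_isPrime_disjoint Q'.primeCompl _ Ps inferInstance hd'
        have hP'h : P'.height ≤ 1 := by
          rw [IsLocalization.height_map_of_disjoint Q'.primeCompl Ps hd',
            IsLocalization.height_map_of_disjoint (Submonoid.powers x) P hdis]
          exact hPh
        by_cases hP'0 : P' = ⊥
        · show P'.IsPrincipal
          rw [hP'0]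
          exact bot_isPrincipal
        obtain ⟨p, hp, hpp⟩ := Ideal.IsPrime.exists_mem_prime_of_ne_bot ‹P'.IsPrime› hP'0
        refine ⟨p, le_antisymm (not_not.mp fun hh => ?_) ((Submodule.span_singleton_le_iff_mem _ _).mpr hp)⟩
        have hlt' : Ideal.span {p} < P' :=
          lt_of_le_not_ge ((Ideal.span_singleton_le_iff_mem _).mpr hp) hh
        haveI : (Ideal.span {p}).IsPrime := (Ideal.span_singleton_prime hpp.ne_zero).mpr hpp
        haveI : (⊥ : Ideal (Localization.AtPrime Q')).IsPrime := Ideal.isPrime_bot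
        have h1 := Ideal.height_add_one_le_of_lt_of_isPrime
          (show (⊥ : Ideal (Localization.AtPrime Q')) < Ideal.span {p} from
            bot_lt_iff_ne_bot.mpr (by simpa using hpp.ne_zero))
        have h2 := Ideal.height_add_one_le_of_lt_of_isPrime hlt'
        have h3 : (2 : ℕ∞) ≤ P'.height :=
          le_trans (by rw [show (2 : ℕ∞) = 1 + 1 from rfl]; gcongr; exact le_add_self.trans h1) h2
        exact absurd (h3.trans hP'h) (by decide)
      · obtain ⟨s, hs, hsQ⟩ := SetLike.not_le_iff_exists.mp hle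
        rw [Ideal.eq_top_of_isUnit_mem (Ps.map (algebraMap S (Localization.AtPrime Q')))
          (Ideal.mem_map_of_mem _ hs) (IsLocalization.map_units (Localization.AtPrime Q') (⟨s, hsQ⟩ : Q'.primeCompl))]
        exact ⟨1, Ideal.span_singleton_one.symm⟩
    obtain ⟨p, hp⟩ := hpr
    haveI : Module.Flat (Localization.AtPrime Q') (Ps.map (algebraMap S (Localization.AtPrime Q'))) := by
      rw [hp]
      by_cases hp0 : p = 0
      · subst hp0
        rw [show Submodule.span (Localization.AtPrime Q') {(0 : Localization.AtPrime Q')} = ⊥ by simp]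
        infer_instance
      · exact Module.Flat.of_linearEquiv
          (LinearEquiv.toSpanNonzeroSingleton (Localization.AtPrime Q') (Localization.AtPrime Q') p hp0).symm
    haveI : Module.Flat S (Localization.AtPrime Q') := IsLocalization.flat _ Q'.primeCompl
    exact Module.Flat.trans S (Localization.AtPrime Q') _
  haveI : Module.Projective S Ps := Module.Flat.projective_of_finitePresentation
  haveI : Module.Finite R P := Module.Finite.of_fg (IsNoetherian.noetherian P)
  obtain ⟨d', hd', -⟩ := GrothLib.RegLoc.exists_dim_eq (R := R)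
  obtain ⟨b, m, ⟨φ⟩⟩ := exists_stablyFree (S := S) d' P (pdLE_of_isRegularLocalRing R d' hd' P)
    (Module.Projective.of_equiv e.symm)
  obtain ⟨s, hs⟩ := isPrincipal_of_stablyFree Ps hPsne (((e.symm).prodCongr (.refl S _)) ≪≫ₗ φ)
  -- a generator in `R` not divisible by `x`
  have hs0 : s ≠ 0 := fun h => hPsne (by rw [hs, h]; simp)
  obtain ⟨⟨a, t⟩, hat⟩ := IsLocalization.surj (Submonoid.powers x) s
  have ha0 : a ≠ 0 := fun h => by
    rw [h, map_zero] at hat
    exact hs0 ((IsUnit.mul_left_eq_zero (IsLocalization.map_units S t)).mp hat)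
  obtain ⟨y, hay, hxy⟩ := (FiniteMultiplicity.of_prime_left hxp ha0).exists_eq_pow_mul_and_not_dvd
  generalize multiplicity x a = k at hay
  subst hay
  have hux : IsUnit (algebraMap R S x) := IsLocalization.Away.algebraMap_isUnit x
  have hy : Ps = Ideal.span {algebraMap R S y} := by
    rw [hs]
    refine Ideal.span_singleton_eq_span_singleton.mpr ?_
    refine ⟨(IsLocalization.map_units S t).unit * ((hux.pow k).unit)⁻¹, ?_⟩
    rw [Units.val_mul, IsUnit.unit_spec, ← mul_assoc]
    dsimp only at hat
    rw [hat, map_mul, map_pow, mul_comm (algebraMap R S x ^ k), mul_assoc, IsUnit.mul_val_inv, mul_one]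
  have hyP : y ∈ P := by
    have h1 : algebraMap R S y ∈ Ps := hy ▸ Ideal.mem_span_singleton_self _
    have := IsLocalization.under_map_of_isPrime_disjoint (Submonoid.powers x) S ‹P.IsPrime› hdis
    rw [← this]
    exact h1
  refine ⟨y, hPQ hyP, ?_⟩
  have hPy : P = Ideal.span {y} := by
    refine le_antisymm (fun z hz => ?_) ((Ideal.span_singleton_le_iff_mem _).mpr hyP)
    have h1 : algebraMap R S z ∈ Ps := Ideal.mem_map_of_mem _ hz
    rw [hy, Ideal.mem_span_singleton] at h1
    obtain ⟨w, hw⟩ := h1
    obtain ⟨⟨w₀, tw⟩, hw₀⟩ := IsLocalization.surj (Submonoid.powers x) w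
    obtain ⟨n, hn⟩ := tw.2
    have h2 : z * x ^ n = y * w₀ := by
      refine IsLocalization.injective S (powers_le_nonZeroDivisors_of_noZeroDivisors hx0) ?_
      rw [map_mul, map_mul, ← hw₀, hw, mul_assoc]
      dsimp only
      rw [← hn]
    obtain ⟨u, hu⟩ := hxp.pow_dvd_of_dvd_mul_left n hxy ⟨z, by rw [← h2, mul_comm]⟩
    rw [Ideal.mem_span_singleton]
    refine ⟨u, mul_right_cancel₀ (pow_ne_zero n hx0) ?_⟩
    rw [h2, hu]
    ring
  have hy0 : y ≠ 0 := fun h => hPne (by rw [hPy, h]; simp)
  exact (Ideal.span_singleton_prime hy0).mp (hPy ▸ inferInstance)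

/-- Regular local rings are factorial. -/
theorem ufd_of_isRegularLocalRing (R : Type u) [CommRing R] [IsDomain R] [IsRegularLocalRing R] :
    UniqueFactorizationMonoid R := by
  obtain ⟨d, hd, -⟩ := GrothLib.RegLoc.exists_dim_eq (R := R)
  exact uniqueFactorizationMonoid_of_regular d R hd.le

end GrothLib.RegUFD
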